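import Cfsg.Agent.H360.TI.Basic

/-!
# Elementwise criteria for `TIp`
-/

set_option autoImplicit false

namespace Cfsg.Agent.H360.TI

open Subgroup

variable {G : Type*} [Group G]

theorem zpowers_eq_of_mem {p : ℕ} (hp : p.Prime) {w y : G} (hw : orderOf w = p) (hy : y ∈ zpowers w) (hy1 : y ≠ 1) :
    zpowers y = zpowers w := by
  have hfin : Finite (zpowers w) := Nat.finite_of_card_ne_zero (by rw [Nat.card_zpowers, hw]; exact hp.ne_zero)
  apply eq_of_le_of_card_ge (zpowers_le.2 hy)
  rw [Nat.card_zpowers, Nat.card_zpowers, hw]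
  have h1 : orderOf y ∣ p := by
    rw [← hw, ← Nat.card_zpowers w]
    exact Subgroup.orderOf_dvd_natCard _ hy
  rcases (Nat.dvd_prime hp).1 h1 with h | h
  · exact absurd (orderOf_eq_one_iff.1 h) hy1
  · exact h.ge

theorem mem_zpowers_of_pow_eq_one {p a : ℕ} (hp : p.Prime) {x y : G} (hx : orderOf x = p ^ (a + 1))
    (hy : y ∈ zpowers x) (hy1 : y ^ p = 1) : y ∈ zpowers (x ^ (p ^ a)) := by
  obtain ⟨k, rfl⟩ := mem_zpowers_iff.1 hy
  have h1 : x ^ (k * p) = 1 := by rw [zpow_mul]; exact_mod_cast hy1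
  have h2 : ((p ^ (a + 1) : ℕ) : ℤ) ∣ k * p := by rw [← hx]; exact orderOf_dvd_iff_zpow_eq_one.2 h1
  have h3 : ((p ^ a : ℕ) : ℤ) ∣ k := by
    have hp0 : (p : ℤ) ≠ 0 := by exact_mod_cast hp.ne_zero
    rw [pow_succ] at h2
    push_cast at h2 ⊢
    exact Int.dvd_of_mul_dvd_mul_right hp0 h2
  obtain ⟨j, rfl⟩ := h3
  rw [zpow_mul, zpow_natCast]
  exact ⟨j, rfl⟩

theorem TIp.of_elementwise [Finite G]
    (h : ∀ (x g : G) (p a : ℕ), p.Prime → orderOf x = p ^ (a + 1) → g * x ^ (p ^ a) * g⁻¹ ∈ zpowers (x ^ (p ^ a)) →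
      g * x * g⁻¹ ∈ zpowers x) : TIp G := by
  intro H hH hpp g
  obtain ⟨x, hx⟩ := hH.exists_generator
  have hHx : H = zpowers (x : G) := by
    ext y
    constructor
    · intro hy
      obtain ⟨k, hk⟩ := mem_zpowers_iff.1 (hx ⟨y, hy⟩)
      exact ⟨k, by have := congrArg Subtype.val hk; simpa using this⟩
    · intro hy
      exact (zpowers_le.2 x.2) hy
  obtain ⟨p, k, hp, hk, hcard⟩ := hpp
  have hp' : p.Prime := hp.nat_prime
  obtain ⟨a, rfl⟩ : ∃ a, k = a + 1 := ⟨k - 1, by omega⟩
  have hox : orderOf (x : G) = p ^ (a + 1) := by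
    rw [← Nat.card_zpowers, ← hHx, ← hcard]
  by_cases hcap : (H).map (MulAut.conj g).toMonoidHom ⊓ H = ⊥
  · exact Or.inr hcap
  left
  obtain ⟨y, hy, hy1⟩ := ((H.map (MulAut.conj g).toMonoidHom ⊓ H).bot_or_exists_ne_one).resolve_left hcap
  -- a power of y of order p
  have hdv : orderOf y ∣ p ^ (a + 1) := by
    rw [hcard]
    exact Subgroup.orderOf_dvd_natCard _ hy.2
  obtain ⟨b, hb, hob⟩ := (Nat.dvd_prime_pow hp').1 hdv
  have hb0 : b ≠ 0 := by
    rintro rfl
    rw [pow_zero] at hob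
    exact hy1 (orderOf_eq_one_iff.1 hob)
  obtain ⟨c, rfl⟩ : ∃ c, b = c + 1 := ⟨b - 1, by omega⟩
  set w := y ^ (p ^ c) with hw
  have how : orderOf w = p := by
    rw [hw, orderOf_pow_of_dvd (pow_ne_zero _ hp'.ne_zero) (by rw [hob]; exact pow_dvd_pow p (by omega)), hob,
      pow_succ, Nat.mul_div_cancel_left _ (pow_pos hp'.pos _)]
  have hw1 : w ≠ 1 := by
    intro h1
    rw [h1, orderOf_one] at how
    exact hp'.one_lt.ne how
  have hwp : w ^ p = 1 := by rw [← how]; exact pow_orderOf_eq_one w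
  have hwH : w ∈ zpowers (x : G) := by rw [← hHx]; exact pow_mem hy.2 _
  have hwH' : w ∈ zpowers (g * (x : G) * g⁻¹) := by
    have h1 : w ∈ H.map (MulAut.conj g).toMonoidHom := pow_mem hy.1 _
    rw [hHx, MonoidHom.map_zpowers] at h1
    exact h1
  have hox' : orderOf (g * (x : G) * g⁻¹) = p ^ (a + 1) := by
    rw [← hox]
    exact orderOf_injective (MulAut.conj g).toMonoidHom (MulAut.conj g).injective (x : G)
  have h1 := mem_zpowers_of_pow_eq_one hp' hox hwH hwp
  have h2 := mem_zpowers_of_pow_eq_one hp' hox' hwH' hwp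
  have hopow : ∀ z : G, orderOf z = p ^ (a + 1) → orderOf (z ^ (p ^ a)) = p := by
    intro z hz
    rw [orderOf_pow_of_dvd (pow_ne_zero _ hp'.ne_zero) (by rw [hz]; exact pow_dvd_pow p (by omega)), hz,
      pow_succ, Nat.mul_div_cancel_left _ (pow_pos hp'.pos _)]
  have h3 := zpowers_eq_of_mem hp' (hopow _ hox) h1 hw1
  have h4 := zpowers_eq_of_mem hp' (hopow _ hox') h2 hw1
  have h5 : (g * (x : G) * g⁻¹) ^ (p ^ a) = g * (x : G) ^ (p ^ a) * g⁻¹ := conj_pow
  have h6 := h x g p a hp' hox (by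
    rw [← h3, h4, h5]
    exact mem_zpowers _)
  have h7 : H.map (MulAut.conj g).toMonoidHom ≤ H := by
    rw [hHx, MonoidHom.map_zpowers, zpowers_le]
    exact h6
  apply eq_of_le_of_card_ge h7
  rw [← Nat.card_congr (H.equivMapOfInjective (MulAut.conj g).toMonoidHom (MulAut.conj g).injective).toEquiv]

/-- transport along an isomorphism -/
theorem TIp.congr {L : Type*} [Group L] (e : G ≃* L) (h : TIp G) : TIp L := by
  intro H hH hpp g
  have hc : Nat.card (H.map e.symm.toMonoidHom) = Nat.card H :=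
    (Nat.card_congr (H.equivMapOfInjective _ e.symm.injective).toEquiv).symm
  have hcy : IsCyclic (H.map e.symm.toMonoidHom) :=
    isCyclic_of_surjective (H.equivMapOfInjective _ e.symm.injective) (MulEquiv.surjective _)
  have key : ∀ K : Subgroup L, (K.map e.symm.toMonoidHom).map (MulAut.conj (e.symm g)).toMonoidHom =
      (K.map (MulAut.conj g).toMonoidHom).map e.symm.toMonoidHom := by
    intro K
    rw [map_map, map_map]
    congr 1
    ext y
    simp
  have hinj : Function.Injective (fun K : Subgroup L => K.map e.symm.toMonoidHom) := map_injective e.symm.injective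
  rcases h (H.map e.symm.toMonoidHom) hcy (by rw [hc]; exact hpp) (e.symm g) with h1 | h1
  · left
    rw [key] at h1
    exact hinj h1
  · right
    rw [key, ← map_inf _ _ _ e.symm.injective] at h1
    apply hinj
    show _ = (⊥ : Subgroup L).map e.symm.toMonoidHom
    rw [Subgroup.map_bot]
    exact h1

/-- if all cyclic subgroups of prime power order have prime order then `TIp` -/
theorem TIp.of_prime (h : ∀ H : Subgroup G, IsCyclic H → IsPrimePow (Nat.card H) → (Nat.card H).Prime) : TIp G := by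
  intro H hH hpp g
  have hp := h H hH hpp
  have hfin : Finite H := Nat.finite_of_card_ne_zero hp.ne_zero
  have h1 : Nat.card ((H.map (MulAut.conj g).toMonoidHom ⊓ H).subgroupOf H) ∣ Nat.card H := card_subgroup_dvd_card _
  have h2 : Nat.card ((H.map (MulAut.conj g).toMonoidHom ⊓ H).subgroupOf H) =
      Nat.card ↥(H.map (MulAut.conj g).toMonoidHom ⊓ H) :=
    Nat.card_congr (subgroupOfEquivOfLe inf_le_right).toEquiv
  rcases (Nat.dvd_prime hp).1 h1 with h3 | h3
  · right
    rw [h2] at h3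
    exact card_eq_one.1 h3
  · left
    rw [h2] at h3
    have h4 : H.map (MulAut.conj g).toMonoidHom ⊓ H = H := by
      apply eq_of_le_of_card_ge inf_le_right
      rw [h3]
    have h5 : H ≤ H.map (MulAut.conj g).toMonoidHom := inf_eq_right.1 h4
    symm
    have hfin' : Finite (H.map (MulAut.conj g).toMonoidHom) :=
      Finite.of_equiv _ (H.equivMapOfInjective (MulAut.conj g).toMonoidHom (MulAut.conj g).injective).toEquiv
    apply eq_of_le_of_card_ge h5
    rw [← Nat.card_congr (H.equivMapOfInjective (MulAut.conj g).toMonoidHom (MulAut.conj g).injective).toEquiv]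

end Cfsg.Agent.H360.TI
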