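import Cfsg.Agent.H360.TI.Basic

/-!
# A 2-group with `TI4` which has elements of order 4 has one with central square
-/

set_option autoImplicit false

namespace Cfsg.Agent.H360.TI

open Subgroup

theorem exists_normalizing_sq {P : Type*} [Group P] [Finite P] (hP : IsPGroup 2 P) (T : Subgroup P)
    (hT : T ≠ ⊤) : ∃ g : P, g ∈ normalizer (T : Set P) ∧ g ∉ T ∧ g * g ∈ T := by
  have : Fact (Nat.Prime 2) := ⟨Nat.prime_two⟩
  have hnil : Group.IsNilpotent P := hP.isNilpotent
  have h1 : T < normalizer (T : Set P) := normalizerCondition_of_isNilpotent T (lt_top_iff_ne_top.2 hT)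
  set N := normalizer (T : Set P) with hN
  have hTN : T ≤ N := h1.le
  let T' : Subgroup N := T.subgroupOf N
  have hn : T'.Normal := by
    constructor
    intro n hn g
    rw [mem_subgroupOf] at hn ⊢
    have h2 := (mem_normalizer_iff.1 g.2 (n : P)).1 hn
    simpa using h2
  have hQ : IsPGroup 2 (N ⧸ T') := (hP.to_subgroup N).to_quotient T'
  have hnt : Nontrivial (N ⧸ T') := by
    rw [QuotientGroup.nontrivial_iff]
    intro h2
    apply h1.ne
    apply le_antisymm hTN
    rw [← subgroupOf_eq_top]
    exact h2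
  have hd : 2 ∣ Nat.card (N ⧸ T') := by
    obtain ⟨n, hn⟩ := IsPGroup.iff_card.1 hQ
    have h3 : 1 < Nat.card (N ⧸ T') := Finite.one_lt_card
    rw [hn] at h3 ⊢
    have h4 : n ≠ 0 := by
      rintro rfl
      simp at h3
    exact dvd_pow_self 2 h4
  obtain ⟨q, hq⟩ := exists_prime_orderOf_dvd_card' 2 hd
  obtain ⟨g, rfl⟩ := QuotientGroup.mk_surjective q
  refine ⟨g, g.2, ?_, ?_⟩
  · intro h3
    have h4 : (QuotientGroup.mk g : N ⧸ T') = 1 := by
      rw [QuotientGroup.eq_one_iff]
      exact h3
    rw [h4, orderOf_one] at hq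
    norm_num at hq
  · have h5 := pow_orderOf_eq_one (QuotientGroup.mk g : N ⧸ T')
    rw [hq, pow_two, ← QuotientGroup.mk_mul, QuotientGroup.eq_one_iff] at h5
    exact h5

/-- `y` works for `x` -/
def Rich {P : Type*} [Group P] (x : P) : Prop :=
  ∃ y : P, orderOf y = 4 ∧ Commute x y ∧ x * x ≠ y * y

/-- `b = false`: elements of order 4; `b = true`: rich elements of order 4 -/
def Good {P : Type*} [Group P] (b : Prop) (x : P) : Prop := orderOf x = 4 ∧ (b → Rich x)

theorem exists_central {P : Type*} [Group P] [Finite P] (hP : IsPGroup 2 P) (h : TI4 P) (b : Prop)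
    (hx : ∃ x : P, Good b x) : ∃ x : P, Good b x ∧ x * x ∈ center P := by
  classical
  obtain ⟨x, hx, hmax⟩ := Set.Finite.exists_maximalFor
    (fun x : P => Nat.card (centralizer ({x * x} : Set P))) {x : P | Good b x} (Set.toFinite _) hx
  refine ⟨x, hx, ?_⟩
  by_contra hc
  set T := centralizer ({x * x} : Set P) with hT
  have hTt : T ≠ ⊤ := by
    intro h1
    apply hc
    rw [mem_center_iff]
    intro g
    have h2 : g ∈ T := by rw [h1]; exact mem_top g
    exact (mem_centralizer_singleton_iff).1 h2
  obtain ⟨g, hgN, hgT, hgg⟩ := exists_normalizing_sq hP T hTt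
  have hxT : x ∈ T := mem_centralizer_singleton_iff.2 (by group)
  set x' := g * x * g⁻¹ with hx'
  have hx'T : x' ∈ T := (mem_normalizer_iff.1 hgN x).1 hxT
  have hx'4 : orderOf x' = 4 := by
    rw [hx', ← hx.1]
    exact orderOf_injective (MulAut.conj g).toMonoidHom (MulAut.conj g).injective x
  have hx's : x' * x' = g * (x * x) * g⁻¹ := by rw [hx']; group
  have hne : x * x ≠ x' * x' := by
    intro h1
    apply hgT
    rw [hT, mem_centralizer_singleton_iff]
    rw [hx's] at h1
    exact (eq_mul_inv_iff_mul_eq.1 h1).symm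
  have hc' : Commute x' (x * x) := (mem_centralizer_singleton_iff.1 hx'T)
  have hcc : Commute x' x := commute_of_sq h hx'4 hx.1 hne.symm hc'
  obtain ⟨ho, he⟩ := ord4_mul hx.1 hx'4 hne hcc.symm
  obtain ⟨hx1, hx2⟩ := ord4_iff.1 hx.1
  obtain ⟨hx1', hx2'⟩ := ord4_iff.1 hx'4
  have hgood : Good b (x * x') := by
    refine ⟨ho, fun _ => ⟨x, hx.1, ?_, ?_⟩⟩
    · exact (Commute.refl x).mul_left hcc
    · rw [he]
      intro h1
      exact hx1' (mul_eq_left.mp h1)
  -- centralizer of (x x')² contains T and g
  have hT2 : T ≤ centralizer ({x * x' * (x * x')} : Set P) := by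
    intro t ht
    rw [mem_centralizer_singleton_iff, he]
    have h1 : Commute t (x * x) := mem_centralizer_singleton_iff.1 ht
    have h2 : Commute t (x' * x') := by
      have h3 : g⁻¹ * t * g ∈ T := by
        have h4 := (mem_normalizer_iff.1 (inv_mem hgN) t).1 ht
        simpa using h4
      have h5 : Commute (g⁻¹ * t * g) (x * x) := mem_centralizer_singleton_iff.1 h3
      rw [hx's]
      have h6 : t * (g * (x * x) * g⁻¹) = g * ((g⁻¹ * t * g) * (x * x)) * g⁻¹ := by group
      have h7 : (g * (x * x) * g⁻¹) * t = g * ((x * x) * (g⁻¹ * t * g)) * g⁻¹ := by group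
      show t * (g * (x * x) * g⁻¹) = (g * (x * x) * g⁻¹) * t
      rw [h6, h7, h5.eq]
    exact h1.mul_right h2
  have hg2 : g ∈ centralizer ({x * x' * (x * x')} : Set P) := by
    rw [mem_centralizer_singleton_iff, he]
    have h1 : Commute (g * g) (x * x) := mem_centralizer_singleton_iff.1 hgg
    have h3 : Commute (x * x) (x' * x') := (hcc.symm.mul_left hcc.symm).mul_right (hcc.symm.mul_left hcc.symm)
    have h4 : g * (x * x) = (x' * x') * g := by rw [hx's]; group
    have h5 : g * (x' * x') = (x * x) * g := by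
      rw [hx's]
      calc g * (g * (x * x) * g⁻¹) = (g * g) * (x * x) * g⁻¹ := by group
        _ = (x * x) * (g * g) * g⁻¹ := by rw [h1.eq]
        _ = (x * x) * g := by group
    calc g * (x * x * (x' * x')) = (g * (x * x)) * (x' * x') := by group
      _ = (x' * x') * (g * (x' * x')) := by rw [h4, mul_assoc]
      _ = (x' * x') * (x * x) * g := by rw [h5]; group
      _ = (x * x) * (x' * x') * g := by rw [h3.eq]
  have hlt : T < centralizer ({x * x' * (x * x')} : Set P) := by
    refine lt_of_le_of_ne hT2 ?_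
    intro h1
    exact hgT (h1 ▸ hg2)
  have hcard : Nat.card T < Nat.card (centralizer ({x * x' * (x * x')} : Set P)) :=
    Set.ncard_lt_ncard (s := (T : Set P)) (t := (centralizer ({x * x' * (x * x')} : Set P) : Set P)) hlt
      (Set.toFinite _)
  have := hmax (j := x * x') hgood hcard.le
  exact absurd hcard (not_lt.2 this)

end Cfsg.Agent.H360.TI
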