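import Cfsg.Agent.H360.TI.Central
import Cfsg.Agent.H360.TI.Rich
import Cfsg.Agent.H360.TI.Dihedral
import Cfsg.Agent.H360.TI.PSLTwo
import Cfsg.Agent.H360.TI.ExclRee
import Cfsg.Agent.H360.TI.ExclB
import Cfsg.Agent.S1169
import Cfsg.Agent.S0483
import Cfsg.Agent.StrongEmb.Strong
import Cfsg.Agent.Walter.StepAll
import Cfsg.Agent.ClassificationK.SmallLieTwoFinal

/-!
# Simple groups whose cyclic subgroups of prime power order are TI
-/

set_option autoImplicit false

namespace Cfsg.Agent.H360.TI.Final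

open Cfsg Cfsg.Agent.H360.TI Subgroup Cfsg.Agent.Walter.Types Cfsg.Agent.Walter.Main

variable {G : Type*} [Group G] [Finite G] [IsSimpleGroup G]

/-- the target -/
def Tgt (G : Type*) [Group G] : Prop :=
  (∃ (F : Type) (_ : Field F) (_ : Fintype F), 3 < Fintype.card F ∧ Nonempty (G ≃* Matrix.ProjectiveSpecialLinearGroup (Fin 2) F)) ∨ Cfsg.Spor.IsoJ1 G

theorem abelian_case (hna : ¬ IsMulCommutative G) (hT : TIp G) (S : Sylow 2 G)
    (hS : IsMulCommutative (S : Subgroup G)) : Tgt G := by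
  have h2 : Fact (Nat.Prime 2) := ⟨Nat.prime_two⟩
  have hSc : ∀ a ∈ (S : Subgroup G), ∀ b ∈ (S : Subgroup G), a * b = b * a := by
    intro a ha b hb
    exact congrArg Subtype.val (hS.is_comm.comm ⟨a, ha⟩ ⟨b, hb⟩)
  have hW : WType G := wType_of_step Cfsg.Agent.Walter.StepAll.step G inferInstance hna S hSc
  rcases Cfsg.Agent.ClassificationK.WalterIso.iso_of_wType Cfsg.Agent.ClassificationK.SmallLieTwoFinal.centThm
    Cfsg.Agent.ClassificationK.SmallLieTwoFinal.reeThm hna hW with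
    ⟨F, i1, i2, n, hn, hc, he⟩ | ⟨F, i1, i2, hm, hc, he⟩ | h | h
  · left
    refine ⟨F, i1, i2, ?_, he⟩
    have h4 : 2 ^ 2 ≤ 2 ^ n := Nat.pow_le_pow_right (by norm_num) hn
    omega
  · left
    exact ⟨F, i1, i2, by omega, he⟩
  · exact absurd hT (not_tip_ree h)
  · exact Or.inr h

theorem rich_case (hna : ¬ IsMulCommutative G) (hT : TIp G) {x y : G} (hx : orderOf x = 4) (hy : orderOf y = 4)
    (hc : Commute x y) (hne : x * x ≠ y * y) : Tgt G := by
  have h2 : Fact (Nat.Prime 2) := ⟨Nat.prime_two⟩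
  have hT4 : TI4 G := hT.ti4
  have hna' : ∃ a b : G, a * b ≠ b * a := by
    by_contra h
    push Not at h
    exact hna ⟨⟨h⟩⟩
  -- a Sylow subgroup containing x and y
  obtain ⟨S, hxS, hyS⟩ : ∃ S : Sylow 2 G, x ∈ (S : Subgroup G) ∧ y ∈ (S : Subgroup G) := by
    have hpx : IsPGroup 2 (zpowers x) := IsPGroup.of_card (n := 2) (by rw [Nat.card_zpowers, hx]; rfl)
    have hpy : IsPGroup 2 (zpowers y) := IsPGroup.of_card (n := 2) (by rw [Nat.card_zpowers, hy]; rfl)
    have hnorm : zpowers x ≤ normalizer (zpowers y : Set G) := by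
      refine zpowers_le.2 ?_
      apply Subgroup.centralizer_le_normalizer
      rw [Subgroup.mem_centralizer_iff]
      rintro z ⟨k, rfl⟩
      exact ((hc.zpow_right k).eq).symm
    have hp := hpx.to_sup_of_normal_right' hpy hnorm
    obtain ⟨S, hS⟩ := hp.exists_le_sylow
    exact ⟨S, hS (le_sup_left (a := zpowers x) (mem_zpowers x)), hS (le_sup_right (a := zpowers x) (mem_zpowers y))⟩
  obtain ⟨z, ⟨hz4, hzr⟩, hzc⟩ := exists_central (P := (S : Subgroup G)) S.isPGroup'
    (TI4.of_injective (S : Subgroup G).subtype (Subgroup.subtype_injective _) hT4) True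
    ⟨⟨x, hxS⟩, by rw [← hx]; exact (orderOf_injective (S : Subgroup G).subtype (Subgroup.subtype_injective _) _).symm,
      fun _ => ⟨⟨y, hyS⟩, by rw [← hy]; exact (orderOf_injective (S : Subgroup G).subtype (Subgroup.subtype_injective _) _).symm,
        Subtype.ext hc.eq, fun h => hne (congrArg Subtype.val h)⟩⟩
  obtain ⟨w, hw4, hwc, hwne⟩ := hzr trivial
  obtain ⟨A, hA, hAc, hAS⟩ := exists_stronglyClosed hT4 S (x := (z : G)) (y := (w : G))
    (by rw [← hz4]; exact (orderOf_injective (S : Subgroup G).subtype (Subgroup.subtype_injective _) _))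
    (by rw [← hw4]; exact (orderOf_injective (S : Subgroup G).subtype (Subgroup.subtype_injective _) _))
    (fun h => hwne (Subtype.ext h)) (congrArg Subtype.val hwc.eq) (by
      intro s hs
      have := Subgroup.mem_center_iff.1 hzc ⟨s, hs⟩
      exact congrArg Subtype.val this)
  rcases Cfsg.Agent.S1169.result S A hA hAc hAS with h | ⟨H, hH⟩
  · exact abelian_case hna hT S h
  rcases Cfsg.Agent.StrongEmb.Strong.result hna' H hH with ⟨F, i1, i2, ⟨n, hn, hF⟩, he⟩ | h | ⟨F, i1, i2, n, hn, hF, ⟨e⟩⟩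
  · left
    refine ⟨F, i1, i2, ?_, he⟩
    have h4 : 2 ^ 2 ≤ 2 ^ n := Nat.pow_le_pow_right (by norm_num) hn
    omega
  · exact absurd hT4 (not_ti4_sz h)
  · exact absurd hT4 (not_ti4_psu hn (by rw [Nat.card_eq_fintype_card]; exact hF) e)

theorem poor_case (hna : ¬ IsMulCommutative G) (P : Poor G) (S : Sylow 2 G)
    (hS : ¬ IsMulCommutative (S : Subgroup G)) : Tgt G := by
  have h2 : Fact (Nat.Prime 2) := ⟨Nat.prime_two⟩
  have hT4 : TI4 G := P.ti.ti4
  have hna' : ∃ a b : G, a * b ≠ b * a := by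
    by_contra h
    push Not at h
    exact hna ⟨⟨h⟩⟩
  -- an element of order 4
  obtain ⟨x, hx⟩ : ∃ x : (S : Subgroup G), orderOf x = 4 := by
    by_contra hno
    push Not at hno
    apply hS
    have hsq : ∀ x : (S : Subgroup G), x * x = 1 := by
      intro x
      obtain ⟨k, hk⟩ := (IsPGroup.iff_orderOf.1 S.isPGroup') x
      by_cases hk2 : k ≤ 1
      · rw [← pow_two]
        apply orderOf_dvd_iff_pow_eq_one.1
        rw [hk]
        exact (pow_dvd_pow 2 hk2).trans (by norm_num)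
      · exfalso
        obtain ⟨j, rfl⟩ : ∃ j, k = j + 2 := ⟨k - 2, by omega⟩
        apply hno (x ^ (2 ^ j))
        rw [orderOf_pow_of_dvd (by positivity) (by rw [hk]; exact pow_dvd_pow 2 (by omega)), hk, pow_add,
          Nat.mul_div_cancel_left _ (by positivity)]
        norm_num
    refine ⟨⟨fun a b => ?_⟩⟩
    have ha : a⁻¹ = a := inv_eq_of_mul_eq_one_left (hsq a)
    have hb : b⁻¹ = b := inv_eq_of_mul_eq_one_left (hsq b)
    have hab : (a * b)⁻¹ = a * b := inv_eq_of_mul_eq_one_left (hsq _)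
    rw [mul_inv_rev, ha, hb] at hab
    exact hab.symm
  obtain ⟨z, ⟨hz4, -⟩, hzc⟩ := exists_central (P := (S : Subgroup G)) S.isPGroup'
    (TI4.of_injective (S : Subgroup G).subtype (Subgroup.subtype_injective _) hT4) False ⟨x, hx, fun h => h.elim⟩
  obtain ⟨n, hn, he⟩ := exists_dihedral hna' P S (x := (z : G))
    (by rw [← hz4]; exact (orderOf_injective (S : Subgroup G).subtype (Subgroup.subtype_injective _) _)) z.2 (by
      intro s hs
      have := Subgroup.mem_center_iff.1 hzc ⟨s, hs⟩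
      exact congrArg Subtype.val this)
  have hperf : Group.IsPerfect G := by
    refine ⟨?_⟩
    rcases (inferInstance : (commutator G).Normal).eq_bot_or_eq_top with h | h
    · exfalso
      apply hna
      refine ⟨⟨fun a b => ?_⟩⟩
      have h3 : a * b * a⁻¹ * b⁻¹ ∈ commutator G := commutator_mem_commutator (mem_top a) (mem_top b)
      rw [h, mem_bot] at h3
      have h4 := mul_inv_eq_one.1 h3
      exact mul_inv_eq_iff_eq_mul.1 h4
    · exact h
  have h2G : 2 ∣ Nat.card G := by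
    have h3 : orderOf ((z : (S : Subgroup G)) : G) = 4 := by
      rw [← hz4]; exact (orderOf_injective (S : Subgroup G).subtype (Subgroup.subtype_injective _) _)
    exact (show 2 ∣ 4 by norm_num).trans (h3 ▸ orderOf_dvd_natCard _)
  have hodd : Cfsg.oddCore G = ⊥ := by
    refine (sSup_eq_bot).2 ?_
    rintro N ⟨hN, hc⟩
    rcases hN.eq_bot_or_eq_top with h | h
    · exact h
    · exfalso
      subst h
      rw [Subgroup.card_top] at hc
      have := Nat.Coprime.eq_one_of_dvd (Nat.Coprime.symm hc) h2G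
      omega
  have hquot : Nonempty (G ≃* G ⧸ Cfsg.oddCore G) :=
    ⟨(QuotientGroup.quotientBot.symm).trans (QuotientGroup.quotientMulEquivOfEq hodd.symm)⟩
  obtain ⟨f⟩ := hquot
  rcases Cfsg.Agent.S0483.result S n hn he with ⟨F, i1, i2, -, hF, ⟨e⟩⟩ | ⟨⟨e⟩⟩
  · exact Or.inl ⟨F, i1, i2, hF, ⟨f.trans e⟩⟩
  · exact absurd hT4 (not_ti4_a7 (f.trans e))

theorem main (hG : ¬ IsMulCommutative G) : TIp G ↔ Tgt G := by
  constructor
  · intro hT
    by_cases hab : ∃ S : Sylow 2 G, IsMulCommutative (S : Subgroup G)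
    · obtain ⟨S, hS⟩ := hab
      exact abelian_case hG hT S hS
    push Not at hab
    by_cases hr : ∃ x y : G, orderOf x = 4 ∧ orderOf y = 4 ∧ Commute x y ∧ x * x ≠ y * y
    · obtain ⟨x, y, hx, hy, hc, hne⟩ := hr
      exact rich_case hG hT hx hy hc hne
    · refine poor_case hG ⟨hT, ?_⟩ default (hab default)
      intro a b ha hb hc
      by_contra hne
      exact hr ⟨a, b, ha, hb, hc, hne⟩
  · rintro (⟨F, i1, i2, -, ⟨e⟩⟩ | ⟨⟨e⟩⟩)
    · exact tip_PSL2.congr e.symm
    · exact tip_J1.congr e.symm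

end Cfsg.Agent.H360.TI.Final
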