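import Cfsg.Agent.H360.TI.Basic
import Cfsg.Agent.Transfer.FrobeniusFusion

/-!
# `TIp` without `Z₄ × Z₄`: the local structure
-/

set_option autoImplicit false

namespace Cfsg.Agent.H360.TI

open Subgroup

/-- `G` has no `Z₄ × Z₄`. -/
structure Poor (G : Type*) [Group G] : Prop where
  ti : TIp G
  nr : ∀ a b : G, orderOf a = 4 → orderOf b = 4 → Commute a b → a * a = b * b

namespace Poor

variable {G : Type*} [Group G] (P : Poor G)
include P

theorem sq_eq {a b : G} (ha : orderOf a = 4) (hb : orderOf b = 4) (hc : Commute a (b * b)) :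
    a * a = b * b := by
  by_contra hne
  exact hne (P.nr a b ha hb (commute_of_sq P.ti.ti4 ha hb hne hc))

/-- `t = r²` commutes with `w²` and `t ≠ w²`: `t` inverts `w` -/
theorem inverts {r w : G} (hr : orderOf r = 4) (hw : orderOf w = 4) (hc : Commute (r * r) (w * w))
    (hne : r * r ≠ w * w) : (r * r) * w * (r * r)⁻¹ = w⁻¹ := by
  rcases P.ti.ti4 w (r * r) hw hc with h1 | h1
  · exact absurd (P.sq_eq hw hr (mul_inv_eq_iff_eq_mul.mp h1 : Commute (r * r) w).symm) hne.symm
  · exact h1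

theorem roots_commute {r w₁ w₂ : G} (hr : orderOf r = 4) (h1 : orderOf w₁ = 4) (h2 : orderOf w₂ = 4)
    (he : w₁ * w₁ = w₂ * w₂) (hc : Commute (r * r) (w₁ * w₁)) (hne : r * r ≠ w₁ * w₁) : Commute w₁ w₂ := by
  obtain ⟨a1, a2⟩ := ord4_iff.1 h1
  rcases P.ti.ti4 w₂ w₁ h2 (by rw [← he]; exact (Commute.refl w₁).mul_right (Commute.refl w₁)) with h3 | h3
  · exact mul_inv_eq_iff_eq_mul.mp h3
  have h4 : w₁ * w₂ = w₂⁻¹ * w₁ := mul_inv_eq_iff_eq_mul.mp h3
  have h5 : (w₁ * w₂) * (w₁ * w₂) = w₁ * w₁ := by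
    nth_rewrite 2 [h4]
    group
  have o : orderOf (w₁ * w₂) = 4 := ord4_iff.2 ⟨by rw [h5]; exact a1, by rw [h5]; exact a2⟩
  have b1 := P.inverts hr h1 hc hne
  have b2 := P.inverts hr h2 (by rw [← he]; exact hc) (by rw [← he]; exact hne)
  have b3 := P.inverts hr o (by rw [h5]; exact hc) (by rw [h5]; exact hne)
  have b4 : (r * r) * (w₁ * w₂) * (r * r)⁻¹ = ((r * r) * w₁ * (r * r)⁻¹) * ((r * r) * w₂ * (r * r)⁻¹) := by group
  rw [b3, b1, b2] at b4
  have b5 : w₂ * w₁ = w₁ * w₂ := by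
    have := congrArg (·⁻¹) b4
    simpa using this.symm
  exact b5.symm

/-- involutions commuting with `x` commute with every root of `x²` -/
theorem root_commute {r x w u : G} (hr : orderOf r = 4) (hx : orderOf x = 4) (hw : orderOf w = 4)
    (he : w * w = x * x) (hc : Commute (r * r) (x * x)) (hne : r * r ≠ x * x) (hu : u * u = 1)
    (hxu : Commute x u) : Commute w u := by
  obtain ⟨a1, a2⟩ := ord4_iff.1 hx
  have e1 : (x * u) * (x * u) = x * x := by rw [hxu.symm.mul_mul_mul_comm, hu, mul_one]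
  have o1 : orderOf (x * u) = 4 := ord4_iff.2 ⟨by rw [e1]; exact a1, by rw [e1]; exact a2⟩
  have c1 := P.roots_commute hr hx hw he.symm hc hne
  have c2 := P.roots_commute hr hw o1 (by rw [e1, he]) (by rw [he]; exact hc) (by rw [he]; exact hne)
  have c3 : Commute w (x⁻¹ * (x * u)) := c1.symm.inv_right.mul_right c2
  rwa [inv_mul_cancel_left] at c3

/-- `t` commutes with `u` -/
theorem invol_commute {r x u : G} (hr : orderOf r = 4) (hx : orderOf x = 4)
    (hc : Commute (r * r) (x * x)) (hne : r * r ≠ x * x) (hu : u * u = 1)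
    (hxu : Commute x u) : Commute (r * r) u := by
  obtain ⟨a1, a2⟩ := ord4_iff.1 hx
  have e1 : (x * u) * (x * u) = x * x := by rw [hxu.symm.mul_mul_mul_comm, hu, mul_one]
  have o1 : orderOf (x * u) = 4 := ord4_iff.2 ⟨by rw [e1]; exact a1, by rw [e1]; exact a2⟩
  have b1 := P.inverts hr hx hc hne
  have b3 := P.inverts hr o1 (by rw [e1]; exact hc) (by rw [e1]; exact hne)
  have b4 : (r * r) * (x * u) * (r * r)⁻¹ = ((r * r) * x * (r * r)⁻¹) * ((r * r) * u * (r * r)⁻¹) := by group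
  rw [b3, b1, hxu.eq, mul_inv_rev] at b4
  have hu' : u⁻¹ = u := inv_eq_of_mul_eq_one_right hu
  rw [hu'] at b4
  have b5 := mul_left_cancel b4
  exact mul_inv_eq_iff_eq_mul.mp b5.symm

/-- a 2-element commuting with `x² ≠ r²` has order at most 2 -/
theorem sq_eq_one {r x s : G} {k : ℕ} (hr : orderOf r = 4) (hx : orderOf x = 4) (hne : r * r ≠ x * x)
    (hs : s ^ (2 ^ k) = 1) (h1 : Commute s (r * r)) (h2 : Commute s (x * x)) : s * s = 1 := by
  by_contra hs2
  obtain ⟨m, hm, ho⟩ := (Nat.dvd_prime_pow Nat.prime_two).1 (orderOf_dvd_of_pow_eq_one hs)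
  have hm2 : 2 ≤ m := by
    by_contra hlt
    apply hs2
    have : m = 0 ∨ m = 1 := by omega
    have h3 := pow_orderOf_eq_one s
    rcases this with rfl | rfl
    · rw [ho, pow_zero, pow_one] at h3
      rw [h3, one_mul]
    · rw [ho, pow_one, pow_two] at h3
      exact h3
  obtain ⟨j, rfl⟩ := Nat.exists_eq_add_of_le hm2
  have o : orderOf (s ^ (2 ^ j)) = 4 := by
    rw [orderOf_pow_of_dvd (pow_ne_zero _ two_ne_zero) (by rw [ho]; exact pow_dvd_pow 2 (by omega)), ho, pow_add,
      Nat.mul_div_cancel _ (by positivity)]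
    norm_num
  have e1 := P.sq_eq o hr (h1.pow_left _)
  have e2 := P.sq_eq o hx (h2.pow_left _)
  exact hne (e1.symm.trans e2)

/-- `u` or `u x²` commutes with `r` -/
theorem commute_or {r x u : G} (hr : orderOf r = 4) (hx : orderOf x = 4)
    (hc : Commute (r * r) (x * x)) (hne : r * r ≠ x * x) (hu : u * u = 1)
    (hxu : Commute x u) : Commute r u ∨ Commute r (u * (x * x)) := by
  have c1 := P.invol_commute hr hx hc hne hu hxu
  rcases P.ti.ti4 r u hr c1.symm with h1 | h1
  · left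
    exact (mul_inv_eq_iff_eq_mul.mp h1 : Commute u r).symm
  · right
    have h2 := P.inverts hx hr hc.symm hne.symm
    have h3 : (u * (x * x)) * r * (u * (x * x))⁻¹ = r := by
      calc (u * (x * x)) * r * (u * (x * x))⁻¹ = u * ((x * x) * r * (x * x)⁻¹) * u⁻¹ := by group
        _ = (u * r * u⁻¹)⁻¹ := by rw [h2]; group
        _ = r := by rw [h1, inv_inv]
    exact (mul_inv_eq_iff_eq_mul.mp h3 : Commute (u * (x * x)) r).symm

omit P in
theorem odd_commute {g x : G} (hx : orderOf x = 4) {n : ℕ} (hn : Odd n) (hg : g ^ n = 1)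
    (h : g * x * g⁻¹ = x ∨ g * x * g⁻¹ = x⁻¹) : Commute g x := by
  rcases h with h | h
  · exact mul_inv_eq_iff_eq_mul.mp h
  have h1 : Commute (g * g) x := by
    have h2 : g * g * x * (g * g)⁻¹ = x := by
      calc g * g * x * (g * g)⁻¹ = g * (g * x * g⁻¹) * g⁻¹ := by group
        _ = g * x⁻¹ * g⁻¹ := by rw [h]
        _ = (g * x * g⁻¹)⁻¹ := by group
        _ = x := by rw [h, inv_inv]
    exact mul_inv_eq_iff_eq_mul.mp h2
  obtain ⟨m, rfl⟩ := hn
  have h3 : g = (g * g) ^ (m + 1) := by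
    rw [← pow_two, ← pow_mul]
    have : 2 * (m + 1) = (2 * m + 1) + 1 := by ring
    rw [this, pow_succ, hg, one_mul]
  rw [h3]
  exact h1.pow_left _

omit P in
theorem odd_commute_cyclic {g a : G} {m n : ℕ} (ha : a ^ (2 ^ m) = 1) (hn : Odd n) (hg : g ^ n = 1)
    (h : g * a * g⁻¹ ∈ zpowers a) : Commute g a := by
  obtain ⟨j, hj⟩ := mem_zpowers_iff.1 h
  have hk : ∀ k : ℕ, g ^ k * a * (g ^ k)⁻¹ = a ^ (j ^ k) := by
    intro k
    induction k with
    | zero => simp
    | succ k ih =>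
      calc g ^ (k + 1) * a * (g ^ (k + 1))⁻¹ = g * (g ^ k * a * (g ^ k)⁻¹) * g⁻¹ := by
            rw [pow_succ']; group
        _ = (g * a * g⁻¹) ^ (j ^ k) := by rw [ih, conj_zpow]
        _ = a ^ (j ^ (k + 1)) := by rw [← hj, ← zpow_mul, pow_succ']
  have h1 := hk n
  rw [hg, one_mul, inv_one, mul_one] at h1
  have h2 : a ^ (j ^ n - 1) = 1 := by rw [zpow_sub, ← h1, zpow_one, mul_inv_cancel]
  have h3 : (orderOf a : ℤ) ∣ j ^ n - 1 := orderOf_dvd_iff_zpow_eq_one.2 h2
  obtain ⟨k, hk1, hk2⟩ := (Nat.dvd_prime_pow Nat.prime_two).1 (orderOf_dvd_of_pow_eq_one ha)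
  by_cases hk0 : k = 0
  · rw [hk0, pow_zero, orderOf_eq_one_iff] at hk2
    rw [hk2]
    exact Commute.one_right g
  -- j is odd
  have h2d : (2 : ℤ) ∣ j ^ n - 1 := by
    refine dvd_trans ?_ h3
    rw [hk2]
    push_cast
    exact dvd_pow_self 2 hk0
  have hjodd : Odd j := by
    rcases Int.even_or_odd j with h | h
    · exfalso
      have h4 : Even (j ^ n) := (Int.even_pow' (by rintro rfl; exact absurd hn (by decide))).2 h
      have h5 : Even (j ^ n - 1) := even_iff_two_dvd.2 h2d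
      have h6 : Odd (j ^ n - 1) := h4.sub_odd odd_one
      exact (Int.not_even_iff_odd.2 h6) h5
    · exact h
  -- geometric sum is odd
  have hgeom : (∑ i ∈ Finset.range n, j ^ i) * (j - 1) = j ^ n - 1 := geom_sum_mul j n
  have hsum : Odd (∑ i ∈ Finset.range n, j ^ i) := by
    have hs2 : ∀ N : ℕ, ∃ q : ℤ, ∑ i ∈ Finset.range N, j ^ i = 2 * q + N := by
      intro N
      induction N with
      | zero => exact ⟨0, by simp⟩
      | succ N ih =>
        obtain ⟨q, hq⟩ := ih
        obtain ⟨q', hq'⟩ : Odd (j ^ N) := hjodd.pow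
        refine ⟨q + q', ?_⟩
        rw [Finset.sum_range_succ, hq, hq']
        push_cast
        ring
    obtain ⟨q, hq⟩ := hs2 n
    obtain ⟨n', hn'⟩ := hn
    refine ⟨q + n', ?_⟩
    rw [hq, hn']
    push_cast
    ring
  have h7 : (orderOf a : ℤ) ∣ j - 1 := by
    rw [← hgeom] at h3
    refine IsCoprime.dvd_of_dvd_mul_left ?_ h3
    rw [hk2]
    push_cast
    apply IsCoprime.pow_left
    have : IsCoprime (2 : ℤ) (∑ i ∈ Finset.range n, j ^ i) := by
      obtain ⟨q, hq⟩ := hsum
      rw [hq]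
      exact ⟨-q, 1, by ring⟩
    exact this
  have h8 : a ^ (j - 1) = 1 := orderOf_dvd_iff_zpow_eq_one.1 h7
  have h9 : a ^ j = a := by
    rw [zpow_sub, zpow_one] at h8
    exact (mul_inv_eq_one.1 h8)
  rw [h9] at hj
  exact mul_inv_eq_iff_eq_mul.mp hj.symm

/-- `C(x²)` satisfies Frobenius' local condition -/
theorem local_condition {x : G} (hx : orderOf x = 4) :
    Cfsg.Agent.Transfer.FrobeniusFusion.LocalCondition 2 (centralizer ({x * x} : Set G)) := by
  intro D hD g hg hgo
  have h := P.ti.ti4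
  obtain ⟨hx1, hx2⟩ := ord4_iff.1 hx
  set n := orderOf g with hn
  have hnodd : Odd n := by
    rw [← Nat.not_even_iff_odd, even_iff_two_dvd]
    intro h2
    have := Nat.Coprime.coprime_dvd_left h2 hgo
    norm_num at this
  have hgn : (g : G) ^ n = 1 := by
    have := pow_orderOf_eq_one g
    rw [← hn] at this
    exact_mod_cast congrArg Subtype.val this
  have hcen : ∀ c : centralizer ({x * x} : Set G), Commute (c : G) (x * x) := fun c =>
    mem_centralizer_singleton_iff.1 c.2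
  have hgx : Commute (g : G) x := odd_commute hx hnodd hgn (h x g hx (hcen g))
  have hDp : ∀ a ∈ D, ∃ k : ℕ, (a : G) ^ (2 ^ k) = 1 := by
    intro a ha
    obtain ⟨k, hk⟩ := hD ⟨a, ha⟩
    refine ⟨k, ?_⟩
    have := congrArg (fun y : D => ((y : centralizer ({x * x} : Set G)) : G)) hk
    simpa using this
  -- elements of D commuting with x
  have case1 : ∀ a ∈ D, Commute x (a : G) → Commute (g : G) a := by
    intro a ha hxa
    by_cases h2 : (a : G) * a = 1
    · have e1 : (x * a) * (x * a) = x * x := by rw [hxa.symm.mul_mul_mul_comm, h2, mul_one]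
      have o1 : orderOf (x * (a : G)) = 4 := ord4_iff.2 ⟨by rw [e1]; exact hx1, by rw [e1]; exact hx2⟩
      have c1 := odd_commute o1 hnodd hgn (h _ g o1 (by rw [e1]; exact hcen g))
      have c2 : Commute (g : G) (x⁻¹ * (x * a)) := hgx.inv_right.mul_right c1
      rwa [inv_mul_cancel_left] at c2
    · obtain ⟨k, hk⟩ := hDp a ha
      obtain ⟨m, hm, ho⟩ := (Nat.dvd_prime_pow Nat.prime_two).1 (orderOf_dvd_of_pow_eq_one hk)
      have hm2 : 2 ≤ m := by
        by_contra hlt
        apply h2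
        have : m = 0 ∨ m = 1 := by omega
        have h3 := pow_orderOf_eq_one (a : G)
        rcases this with rfl | rfl
        · rw [ho, pow_zero, pow_one] at h3
          rw [h3, one_mul]
        · rw [ho, pow_one, pow_two] at h3
          exact h3
      obtain ⟨j, rfl⟩ := Nat.exists_eq_add_of_le hm2
      have o : orderOf ((a : G) ^ (2 ^ j)) = 4 := by
        rw [orderOf_pow_of_dvd (pow_ne_zero _ two_ne_zero) (by rw [ho]; exact pow_dvd_pow 2 (by omega)), ho,
          pow_add, Nat.mul_div_cancel _ (by positivity)]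
        norm_num
      have e1 := P.sq_eq o hx ((hcen a).pow_left _)
      have e2 : (a : G) ^ (2 ^ (j + 1)) = x * x := by
        rw [pow_succ, pow_mul, pow_two]; exact e1
      have h3 := conj_mem_zpowers P.ti (x := (a : G)) (g := g) (p := 2) (a := j + 1) Nat.prime_two
        (by rw [ho]; congr 1; omega) (by rw [e2]; exact hcen g)
      exact odd_commute_cyclic hk hnodd hgn h3
  rw [mem_centralizer_iff]
  intro a ha
  show a * g = g * a
  suffices hs : Commute (g : G) (a : G) by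
    apply Subtype.ext
    exact hs.eq.symm
  by_cases hxa : Commute x (a : G)
  · exact case1 a ha hxa
  have hax : (a : G) * x * (a : G)⁻¹ = x⁻¹ := by
    rcases h x a hx (hcen a) with h1 | h1
    · exact absurd (mul_inv_eq_iff_eq_mul.mp h1 : Commute (a : G) x).symm hxa
    · exact h1
  set b := g * a * g⁻¹ with hb
  have hbD : b ∈ D := (mem_normalizer_iff.1 hg a).1 ha
  have hbx : (b : G) * x * (b : G)⁻¹ = x⁻¹ := by
    have : (b : G) = g * a * g⁻¹ := by rw [hb]; rfl
    rw [this]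
    have h5 : (g : G)⁻¹ * x * g = x := by
      rw [mul_assoc, ← hgx.eq, inv_mul_cancel_left]
    calc (g : G) * a * (g : G)⁻¹ * x * ((g : G) * a * (g : G)⁻¹)⁻¹
        = g * (a * ((g : G)⁻¹ * x * g) * (a : G)⁻¹) * (g : G)⁻¹ := by group
      _ = g * x⁻¹ * (g : G)⁻¹ := by rw [h5, hax]
      _ = x⁻¹ := by rw [hgx.inv_right.eq, mul_inv_cancel_right]
  set c := a⁻¹ * b with hc
  have hcD : c ∈ D := mul_mem (inv_mem ha) hbD
  have hcx : Commute x (c : G) := by
    have e : (c : G) = (a : G)⁻¹ * b := by rw [hc]; rfl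
    have h6 : (c : G) * x * (c : G)⁻¹ = x := by
      rw [e]
      have h7 : (a : G)⁻¹ * x⁻¹ * a = x := by
        rw [← hax]; group
      calc (a : G)⁻¹ * b * x * ((a : G)⁻¹ * b)⁻¹ = (a : G)⁻¹ * ((b : G) * x * (b : G)⁻¹) * a := by group
        _ = x := by rw [hbx, h7]
    exact (mul_inv_eq_iff_eq_mul.mp h6 : Commute (c : G) x).symm
  have hgc := case1 c hcD hcx
  have hba : (g : G) * a * (g : G)⁻¹ = a * c := by
    have : (b : G) = g * a * (g : G)⁻¹ := by rw [hb]; rfl
    rw [← this, hc]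
    show (b : G) = a * ((a : G)⁻¹ * b)
    group
  have hk : ∀ k : ℕ, (g : G) ^ k * a * ((g : G) ^ k)⁻¹ = a * (c : G) ^ k := by
    intro k
    induction k with
    | zero => simp
    | succ k ih =>
      calc (g : G) ^ (k + 1) * a * ((g : G) ^ (k + 1))⁻¹ = g * ((g : G) ^ k * a * ((g : G) ^ k)⁻¹) * (g : G)⁻¹ := by
            rw [pow_succ']; group
        _ = (g * a * (g : G)⁻¹) * (g * (c : G) ^ k * (g : G)⁻¹) := by rw [ih]; group
        _ = a * (c : G) ^ (k + 1) := by
            rw [hba, (hgc.pow_right k).eq, mul_inv_cancel_right, pow_succ']; group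
  have hcn : (c : G) ^ n = 1 := by
    have := hk n
    rw [hgn, one_mul, inv_one, mul_one] at this
    exact mul_eq_left.mp this.symm
  have hc1 : (c : G) = 1 := by
    obtain ⟨k, hk⟩ := hDp c hcD
    have h8 : orderOf (c : G) ∣ 2 ^ k := orderOf_dvd_of_pow_eq_one hk
    have h9 : orderOf (c : G) ∣ n := orderOf_dvd_of_pow_eq_one hcn
    have h10 : Nat.Coprime (2 ^ k) n := Nat.Coprime.pow_left k ((Nat.coprime_two_left).2 hnodd)
    exact orderOf_eq_one_iff.1 (Nat.eq_one_of_dvd_coprimes h10 h8 h9)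
  rw [hc1, mul_one] at hba
  exact mul_inv_eq_iff_eq_mul.mp hba

end Poor

end Cfsg.Agent.H360.TI
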